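import Groth.Agent.H23Morita.EndEquiv
import Groth.Agent.H23Az.Ops

/-! # Commutants of Azumaya algebras in endomorphism algebras -/

set_option autoImplicit false

universe u

open TensorProduct MulOpposite

namespace Groth.Agent.H23AzIdem

variable {R : Type u} [CommRing R]

theorem projective_of_tensor (A C : Type u) [AddCommGroup A] [Module R A] [Module.Finite R A]
    [Module.Projective R A] [Module.FaithfullyFlat R A] [AddCommGroup C] [Module R C]
    [Module.Finite R (A ⊗[R] C)] [Module.Projective R (A ⊗[R] C)] :
    Module.Finite R C ∧ Module.Projective R C := by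
  obtain ⟨n, θ, v, hθ⟩ := H23Morita.exists_trace_eq_one (A := R) A
  let i : C →ₗ[R] (Fin n → A ⊗[R] C) := LinearMap.pi fun j => TensorProduct.mk R A C (v j)
  let r : (Fin n → A ⊗[R] C) →ₗ[R] C :=
    ∑ j, ((TensorProduct.lid R C).toLinearMap.comp ((θ j).rTensor C)).comp (LinearMap.proj j)
  have hri : r ∘ₗ i = LinearMap.id := LinearMap.ext fun c => by
    simp [r, i, ← Finset.sum_smul, hθ]
  obtain ⟨m, p, hp⟩ := Module.Finite.exists_fin' R (Fin n → A ⊗[R] C)
  obtain ⟨s, hs⟩ : ∃ s, p ∘ₗ s = LinearMap.id := by
    obtain ⟨m', q, hq⟩ := Module.Finite.exists_fin' R (A ⊗[R] C)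
    obtain ⟨t, ht⟩ := Module.projective_lifting_property q LinearMap.id hq
    haveI : Module.Projective R (Fin n → A ⊗[R] C) := Module.Projective.of_split
      (M := Fin n → Fin m' → R) (LinearMap.compLeft t (Fin n)) (LinearMap.compLeft q (Fin n))
      (LinearMap.ext fun x => funext fun j => LinearMap.congr_fun ht (x j))
    exact Module.projective_lifting_property p LinearMap.id hp
  refine ⟨Module.Finite.of_surjective r fun c => ⟨i c, LinearMap.congr_fun hri c⟩,
    Module.Projective.of_split (s ∘ₗ i) (r ∘ₗ p) ?_⟩
  exact LinearMap.ext fun c => (congrArg r (LinearMap.congr_fun hs (i c))).trans (LinearMap.congr_fun hri c)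

theorem isAzumaya_of_tensor (A B : Type u) [Ring A] [Algebra R A] [IsAzumaya R A] [Ring B] [Algebra R B]
    [IsAzumaya R (A ⊗[R] B)] : IsAzumaya R B := by
  haveI : Module.FaithfullyFlat R A := Groth.Agent.H23Az.faithfullyFlat_of_faithful A
  obtain ⟨hBf, hBp⟩ := projective_of_tensor (R := R) A B
  haveI : FaithfulSMul R B := ⟨fun {r s} h => by
    refine FaithfulSMul.eq_of_smul_eq_smul (α := A ⊗[R] B) fun z => ?_
    induction z using TensorProduct.induction_on with
    | zero => simp
    | add x y hx hy => simp only [smul_add, hx, hy]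
    | tmul a b => rw [← TensorProduct.tmul_smul, ← TensorProduct.tmul_smul, h]⟩
  refine { bij := ?_ }
  let eA := LinearEquiv.ofBijective (AlgHom.mulLeftRight R A).toLinearMap IsAzumaya.bij
  let mB := (AlgHom.mulLeftRight R B).toLinearMap
  let j : (A ⊗[R] Aᵐᵒᵖ) ⊗[R] (B ⊗[R] Bᵐᵒᵖ) ≃ₗ[R] (A ⊗[R] B) ⊗[R] (A ⊗[R] B)ᵐᵒᵖ :=
    TensorProduct.tensorTensorTensorComm R A Aᵐᵒᵖ B Bᵐᵒᵖ ≪≫ₗ
      TensorProduct.congr (LinearEquiv.refl R _)
        (TensorProduct.congr (opLinearEquiv R).symm (opLinearEquiv R).symm ≪≫ₗ opLinearEquiv R)
  have key : ∀ z, AlgHom.mulLeftRight R (A ⊗[R] B) (j z) =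
      homTensorHomEquiv R A B A B (TensorProduct.map eA.toLinearMap mB z) := by
    intro z
    induction z using TensorProduct.induction_on with
    | zero => simp
    | add x y hx hy => simp only [map_add, hx, hy]
    | tmul s t =>
      induction s using TensorProduct.induction_on with
      | zero => simp
      | add x y hx hy => simp only [TensorProduct.add_tmul, map_add, hx, hy]
      | tmul a a' =>
        induction t using TensorProduct.induction_on with
        | zero => simp
        | add x y hx hy => simp only [TensorProduct.tmul_add, map_add, hx, hy]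
        | tmul b b' =>
          refine TensorProduct.ext' fun x y => ?_
          simp [j, eA, mB]
          all_goals
            exact congrArg₂ (· ⊗ₜ[R] ·) (AlgHom.mulLeftRight_apply R A a a' x).symm rfl
  have h : Function.Bijective (TensorProduct.map eA.toLinearMap mB) := by
    have h1 : (fun z => TensorProduct.map eA.toLinearMap mB z) =
        (homTensorHomEquiv R A B A B).symm ∘ AlgHom.mulLeftRight R (A ⊗[R] B) ∘ j := funext fun z => by
      simp only [Function.comp_apply, key, LinearEquiv.symm_apply_apply]
    rw [show ⇑(TensorProduct.map eA.toLinearMap mB) =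
      (fun z => TensorProduct.map eA.toLinearMap mB z) from rfl, h1]
    exact (homTensorHomEquiv R A B A B).symm.bijective.comp (IsAzumaya.bij.comp j.bijective)
  haveI : Module.FaithfullyFlat R (A ⊗[R] Aᵐᵒᵖ) := by
    haveI : IsAzumaya R (Module.End R A) := Groth.Agent.H23Az.isAzumaya_end A
    haveI : Module.FaithfullyFlat R (Module.End R A) :=
      Groth.Agent.H23Az.faithfullyFlat_of_faithful (Module.End R A)
    exact Module.FaithfullyFlat.of_linearEquiv _ _ eA
  have h2 : Function.Bijective (mB.lTensor (A ⊗[R] Aᵐᵒᵖ)) := by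
    have h3 : (mB.lTensor (A ⊗[R] Aᵐᵒᵖ) : _ → _) =
        (eA.symm.rTensor (Module.End R B)) ∘ TensorProduct.map eA.toLinearMap mB := by
      funext z
      induction z using TensorProduct.induction_on with
      | zero => simp
      | add x y hx hy => simp only [map_add, Function.comp_apply, hx, hy]
      | tmul p q => simp
    rw [h3]
    exact (eA.symm.rTensor (Module.End R B)).bijective.comp h
  exact (Module.FaithfullyFlat.lTensor_bijective_iff_bijective _ _ mB).mp h2

variable (A : Type u) [Ring A] [Algebra R A] (X : Type u) [AddCommGroup X] [Module A X] [Module R X]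
  [IsScalarTower R A X] [SMulCommClass A R X]

/-- Multiplication from `A ⊗ End_A X` to `End_R X`. -/
noncomputable def mulHom : A ⊗[R] Module.End A X →ₐ[R] Module.End R X :=
  Algebra.TensorProduct.lift (Algebra.lsmul R R X)
    { toFun := fun c => c.restrictScalars R
      map_one' := rfl
      map_mul' := fun _ _ => rfl
      map_zero' := rfl
      map_add' := fun _ _ => rfl
      commutes' := fun r => LinearMap.ext fun x => rfl }
    fun a c => LinearMap.ext fun x => (c.map_smul a x).symm

theorem mulHom_tmul (a : A) (c : Module.End A X) (x : X) : mulHom A X (a ⊗ₜ[R] c) x = a • c x := by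
  rw [mulHom]; erw [Algebra.TensorProduct.lift_tmul]; rfl

theorem mulHom_bijective [IsAzumaya R A] : Function.Bijective (mulHom (R := R) A X) := by
  let ρ : A →ₐ[R] Module.End R X := Algebra.lsmul R R X
  let act₂ : A ⊗[R] Aᵐᵒᵖ →ₐ[R] Module.End R (Module.End R X) :=
    Algebra.TensorProduct.lift ((Algebra.lmul R (Module.End R X)).comp ρ)
      ({ toFun := fun b => LinearMap.mulRight R (ρ b.unop)
         map_one' := by ext f x; simp
         map_mul' := fun a b => by ext f x; simp [mul_assoc]
         map_zero' := by ext f x; simp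
         map_add' := fun a b => by ext f x; simp [mul_add]
         commutes' := fun r => by ext f x; simp } : Aᵐᵒᵖ →ₐ[R] Module.End R (Module.End R X))
      fun a b => LinearMap.ext fun f => (mul_assoc (ρ a) f (ρ b.unop)).symm
  let eA := AlgEquiv.ofBijective (AlgHom.mulLeftRight R A) IsAzumaya.bij
  let φ : Module.End R A →ₐ[R] Module.End R (Module.End R X) := act₂.comp eA.symm.toAlgHom
  have hφ : ∀ a b f, φ (AlgHom.mulLeftRight R A (a ⊗ₜ op b)) f = ρ a * f * ρ b := fun a b f => by
    have : eA.symm (AlgHom.mulLeftRight R A (a ⊗ₜ op b)) = a ⊗ₜ op b := eA.symm_apply_apply _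
    simp only [φ, AlgHom.comp_apply, AlgEquiv.coe_toAlgHom, this, act₂]
    erw [Algebra.TensorProduct.lift_tmul]
    simp [mul_assoc]
  -- intertwiners are commuting endomorphisms
  have hl : ∀ (l : H23Morita.hom φ) a, (l.1 a = ρ a * l.1 1) ∧ (l.1 a = l.1 1 * ρ a) := fun l a => by
    constructor
    · have h1 := l.2 (AlgHom.mulLeftRight R A (a ⊗ₜ op 1)) 1
      rw [hφ, AlgHom.mulLeftRight_apply, map_one ρ, mul_one, unop_op, mul_one, mul_one] at h1
      exact h1.symm
    · have h1 := l.2 (AlgHom.mulLeftRight R A (1 ⊗ₜ op a)) 1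
      rw [hφ, AlgHom.mulLeftRight_apply, map_one ρ, one_mul, unop_op, one_mul, one_mul] at h1
      exact h1.symm
  have hgen : ∀ (f : Module.End R A) (g : A →ₗ[R] Module.End R X),
      (∀ a b y, φ (AlgHom.mulLeftRight R A (a ⊗ₜ op b)) (g y) = g (a * y * b)) →
      ∀ y, φ f (g y) = g (f y) := fun f g hg y => by
    obtain ⟨z, rfl⟩ := (IsAzumaya.bij (R := R) (A := A)).2 f
    induction z using TensorProduct.induction_on with
    | zero => simp
    | add p q hp hq => simp only [map_add, LinearMap.add_apply, hp, hq]
    | tmul a b =>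
      obtain ⟨b, rfl⟩ := MulOpposite.op_surjective b
      rw [hg, AlgHom.mulLeftRight_apply, unop_op]
  let toC : H23Morita.hom φ ≃ₗ[R] Module.End A X :=
    { toFun := fun l =>
        { toFun := fun x => l.1 1 x
          map_add' := fun x y => map_add _ _ _
          map_smul' := fun a x => by
            have h1 := LinearMap.congr_fun ((hl l a).1.symm.trans (hl l a).2) x
            simpa [ρ] using h1.symm }
      map_add' := fun l l' => LinearMap.ext fun x => rfl
      map_smul' := fun c l => LinearMap.ext fun x => rfl
      invFun := fun c => ⟨(LinearMap.mulRight R (c.restrictScalars R)).comp ρ.toLinearMap, fun f y =>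
        hgen f _ (fun a b y' => by
          rw [hφ]
          ext x
          simp [ρ, mul_smul, map_smul]) y⟩
      left_inv := fun l => Subtype.ext (LinearMap.ext fun a => by
        ext x
        simp only [LinearMap.comp_apply, LinearMap.mulRight_apply, AlgHom.toLinearMap_apply,
          Module.End.mul_apply]
        exact (LinearMap.congr_fun (hl l a).1 x).symm)
      right_inv := fun c => LinearMap.ext fun x => by simp [ρ] }
  have hcomp : (mulHom (R := R) A X : _ → _) = H23Morita.ev φ ∘ (toC.symm.lTensor A) := by
    funext z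
    induction z using TensorProduct.induction_on with
    | zero => simp
    | add p q hp hq => simp only [map_add, Function.comp_apply, hp, hq]
    | tmul a c =>
      ext x
      simp [mulHom_tmul, toC, ρ]
  rw [hcomp]
  exact (H23Morita.ev_bijective φ).comp (toC.symm.lTensor A).bijective

end Groth.Agent.H23AzIdem
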