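import Groth.Agent.H23AzIdem.Centralizer
import Groth.Agent.H23Az.TensorEnd

/-! # Brauer classes over connected rings have representatives without nontrivial idempotents -/

set_option autoImplicit false

universe u

open TensorProduct MulOpposite

namespace Groth.Agent.H23AzIdem

variable {R : Type u} [CommRing R] {A : Type u} [Ring A] [Algebra R A]

/-- The left ideal of an element. -/
def leftSpan (f : A) : Submodule A A := LinearMap.range (LinearMap.toSpanSingleton A A f)

theorem mul_mem_leftSpan (x f : A) : x * f ∈ leftSpan f := ⟨x, rfl⟩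

theorem mul_eq_self {f : A} (hf : IsIdempotentElem f) {x : A} (hx : x ∈ leftSpan f) : x * f = x := by
  obtain ⟨y, rfl⟩ := hx
  show y * f * f = y * f
  rw [mul_assoc, hf.eq]

theorem finite_projective_leftSpan [Module.Finite R A] [Module.Projective R A] {f : A}
    (hf : IsIdempotentElem f) :
    Module.Finite R (leftSpan f) ∧ Module.Projective R (leftSpan f) := by
  let k : A →ₗ[R] leftSpan f :=
    { toFun := fun x => ⟨x * f, mul_mem_leftSpan x f⟩
      map_add' := fun x y => Subtype.ext (add_mul x y f)
      map_smul' := fun c x => Subtype.ext (smul_mul_assoc c x f) }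
  let i : leftSpan f →ₗ[R] A := (leftSpan f).subtype.restrictScalars R
  have hki : k ∘ₗ i = LinearMap.id := LinearMap.ext fun x => Subtype.ext (mul_eq_self hf x.2)
  exact ⟨Module.Finite.of_surjective k fun x => ⟨i x, LinearMap.congr_fun hki x⟩,
    Module.Projective.of_split i k hki⟩

theorem exists_minimal [ConnectedSpace (PrimeSpectrum R)] [IsAzumaya R A] :
    ∃ e : A, IsIdempotentElem e ∧ (∀ p : PrimeSpectrum R, 0 < Module.rankAtStalk (R := R) (leftSpan e) p) ∧
      ∀ c : Module.End A (leftSpan e), IsIdempotentElem c → c = 0 ∨ c = 1 := by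
  classical
  obtain ⟨p₀⟩ := (inferInstance : Nonempty (PrimeSpectrum R))
  haveI : Nontrivial R := p₀.nontrivial
  haveI : Nontrivial A := (FaithfulSMul.algebraMap_injective R A).nontrivial
  have hconst : ∀ f : A, IsIdempotentElem f → ∀ p,
      Module.rankAtStalk (R := R) (leftSpan f) p = Module.rankAtStalk (R := R) (leftSpan f) p₀ :=
    fun f hf p => by
      obtain ⟨h1, h2⟩ := finite_projective_leftSpan (R := R) hf
      haveI : Module.FinitePresentation R (leftSpan f) :=
        Module.finitePresentation_of_projective R (leftSpan f)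
      exact Module.isLocallyConstant_rankAtStalk.apply_eq_of_preconnectedSpace p p₀
  have hpos : ∀ f : A, IsIdempotentElem f → f ≠ 0 → 0 < Module.rankAtStalk (R := R) (leftSpan f) p₀ :=
    fun f hf hf0 => by
      obtain ⟨h1, h2⟩ := finite_projective_leftSpan (R := R) hf
      refine Nat.pos_of_ne_zero fun h0 => hf0 ?_
      have hall : Module.rankAtStalk (R := R) (leftSpan f) = 0 :=
        funext fun p => (hconst f hf p).trans h0
      haveI := Module.rankAtStalk_eq_zero_iff_subsingleton.mp hall
      have h3 : (⟨1 * f, mul_mem_leftSpan 1 f⟩ : leftSpan f) = 0 := Subsingleton.elim _ _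
      simpa using congrArg Subtype.val h3
  have hex : ∃ d, ∃ f : A, IsIdempotentElem f ∧ f ≠ 0 ∧
      Module.rankAtStalk (R := R) (leftSpan f) p₀ = d := ⟨_, 1, IsIdempotentElem.one, one_ne_zero, rfl⟩
  obtain ⟨e, he, he0, hed⟩ := Nat.find_spec hex
  refine ⟨e, he, fun p => by rw [hconst e he p]; exact hpos e he he0, fun c hc => ?_⟩
  let e₀ : leftSpan e := ⟨e, by simpa using mul_mem_leftSpan 1 e⟩
  set f : A := (c e₀).1 with hf
  have hfe : f * e = f := mul_eq_self he (c e₀).2
  have hcx : ∀ x : leftSpan e, (c x).1 = x.1 * f := fun x => by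
    have hx : x = x.1 • e₀ := Subtype.ext (mul_eq_self he x.2).symm
    conv_lhs => rw [hx, map_smul]
    rfl
  have hef : e * f = f := (hcx e₀).symm
  have hff : f * f = f := by
    have h1 := congrArg Subtype.val (LinearMap.congr_fun hc.eq e₀)
    rw [Module.End.mul_apply, hcx] at h1
    exact h1
  have hg : IsIdempotentElem (e - f) := by
    show (e - f) * (e - f) = e - f
    rw [mul_sub, sub_mul, sub_mul, he.eq, hfe, hef, hff]; abel
  obtain ⟨h1, h2⟩ := finite_projective_leftSpan (R := R) (f := f) hff
  obtain ⟨h3, h4⟩ := finite_projective_leftSpan (R := R) hg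
  let split : leftSpan e ≃ₗ[R] leftSpan f × leftSpan (e - f) :=
    { toFun := fun x => (⟨x.1 * f, mul_mem_leftSpan _ _⟩, ⟨x.1 * (e - f), mul_mem_leftSpan _ _⟩)
      map_add' := fun x y => Prod.ext (Subtype.ext (add_mul x.1 y.1 f))
        (Subtype.ext (add_mul x.1 y.1 (e - f)))
      map_smul' := fun r x => Prod.ext (Subtype.ext (smul_mul_assoc r x.1 f))
        (Subtype.ext (smul_mul_assoc r x.1 (e - f)))
      invFun := fun q => ⟨(q.1.1 + q.2.1) * e, mul_mem_leftSpan _ _⟩
      left_inv := fun x => Subtype.ext (by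
        show (x.1 * f + x.1 * (e - f)) * e = x.1
        rw [← mul_add, add_sub_cancel, mul_eq_self he x.2, mul_eq_self he x.2])
      right_inv := fun q => by
        have h5 : q.1.1 * f = q.1.1 := mul_eq_self hff q.1.2
        have h6 : q.2.1 * (e - f) = q.2.1 := mul_eq_self hg q.2.2
        refine Prod.ext (Subtype.ext ?_) (Subtype.ext ?_)
        · show (q.1.1 + q.2.1) * e * f = q.1.1
          have h7 : q.2.1 * f = 0 := by
            rw [← h6, mul_assoc, sub_mul, hef, hff, sub_self, mul_zero]
          rw [mul_assoc, hef, add_mul, h5, h7, add_zero]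
        · show (q.1.1 + q.2.1) * e * (e - f) = q.2.1
          have h8 : e * (e - f) = e - f := by rw [mul_sub, he.eq, hef]
          have h9 : q.1.1 * (e - f) = 0 := by
            rw [← h5, mul_assoc, mul_sub, hfe, hff, sub_self, mul_zero]
          rw [mul_assoc, h8, add_mul, h9, h6, zero_add] }
  have hsum := congrFun (Module.rankAtStalk_eq_of_equiv split) p₀
  rw [Module.rankAtStalk_prod, Pi.add_apply] at hsum
  by_cases hf0 : f = 0
  · left; exact LinearMap.ext fun x => Subtype.ext (by rw [hcx, hf0, mul_zero]; rfl)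
  · right
    have hge : Nat.find hex ≤ Module.rankAtStalk (R := R) (leftSpan f) p₀ :=
      Nat.find_min' hex ⟨f, hff, hf0, rfl⟩
    have hz : Module.rankAtStalk (R := R) (leftSpan (e - f)) p₀ = 0 := by omega
    have : e - f = 0 := by
      by_contra hne
      exact (hpos _ hg hne).ne' hz
    exact LinearMap.ext fun x => Subtype.ext (by
      rw [hcx, ← sub_eq_zero.mp this, mul_eq_self he x.2]; rfl)

theorem exists_representative [ConnectedSpace (PrimeSpectrum R)] [IsAzumaya R A] :
    ∃ (B : Type u) (_ : Ring B) (_ : Algebra R B) (_ : IsAzumaya R B) (P Q : Type u) (_ : AddCommGroup P)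
      (_ : Module R P) (_ : AddCommGroup Q) (_ : Module R Q),
      (∀ b : B, IsIdempotentElem b → b = 0 ∨ b = 1) ∧ Module.Finite R P ∧ Module.Projective R P ∧
      FaithfulSMul R P ∧ Module.Finite R Q ∧ Module.Projective R Q ∧ FaithfulSMul R Q ∧
      Nonempty (A ⊗[R] Module.End R P ≃ₐ[R] B ⊗[R] Module.End R Q) := by
  obtain ⟨e, he, hpos, hidem⟩ := exists_minimal (R := R) (A := A)
  let X := leftSpan e
  obtain ⟨hXf, hXp⟩ := finite_projective_leftSpan (R := R) he
  haveI : FaithfulSMul R X := by
    haveI : Module.FaithfullyFlat R X := by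
      refine { submodule_ne_top := fun m hm hm' => ?_ }
      have h1 := hpos ⟨m, hm.isPrime⟩
      rw [Module.rankAtStalk_pos_iff_mem_support] at h1
      obtain ⟨r, hr, hr0⟩ := Submodule.exists_sub_one_mem_and_smul_eq_zero_of_fg_of_le_smul m ⊤
        (Module.Finite.fg_top (R := R) (M := X)) (by rw [hm'])
      rw [Module.mem_support_iff_of_finite, Module.mem_support_iff_of_finite.symm] at h1
      have h2 : Module.annihilator R X ≤ m := by
        simpa [Module.mem_support_iff_of_finite] using h1
      have h3 : r ∈ m := h2 (Module.mem_annihilator.mpr fun x => hr0 x Submodule.mem_top)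
      exact hm.ne_top ((Ideal.eq_top_iff_one _).mpr (by simpa using m.sub_mem h3 hr))
    exact Groth.Agent.H23Az.faithfulSMul_of_faithfullyFlat (R := R) X
  haveI : IsAzumaya R (Module.End R X) := Groth.Agent.H23Az.isAzumaya_end X
  let Ψ := AlgEquiv.ofBijective (mulHom (R := R) A X) (mulHom_bijective A X)
  let C := Module.End A X
  haveI : IsAzumaya R (A ⊗[R] C) := IsAzumaya.of_AlgEquiv R (Module.End R X) (A ⊗[R] C) Ψ.symm
  haveI hC : IsAzumaya R C := isAzumaya_of_tensor A C
  let eC : C ⊗[R] Cᵐᵒᵖ ≃ₐ[R] Module.End R C :=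
    AlgEquiv.ofBijective (AlgHom.mulLeftRight R C) IsAzumaya.bij
  haveI : IsAzumaya R (Module.End R C) := Groth.Agent.H23Az.isAzumaya_end C
  haveI : IsAzumaya R (C ⊗[R] Cᵐᵒᵖ) := IsAzumaya.of_AlgEquiv R (Module.End R C) (C ⊗[R] Cᵐᵒᵖ) eC.symm
  haveI : IsAzumaya R Cᵐᵒᵖ := isAzumaya_of_tensor C Cᵐᵒᵖ
  refine ⟨Cᵐᵒᵖ, inferInstance, inferInstance, inferInstance, C, X, inferInstance, inferInstance,
    inferInstance, inferInstance, ?_, inferInstance, inferInstance, inferInstance, hXf, hXp,
    inferInstance, ⟨?_⟩⟩
  · intro b hb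
    rcases hidem b.unop (congrArg unop hb.eq) with h | h
    · left; exact unop_injective h
    · right; exact unop_injective h
  · exact (Algebra.TensorProduct.congr AlgEquiv.refl eC.symm).trans
      ((Algebra.TensorProduct.assoc R R R A C Cᵐᵒᵖ).symm.trans
        ((Algebra.TensorProduct.congr Ψ AlgEquiv.refl).trans (Algebra.TensorProduct.comm R _ _)))

end Groth.Agent.H23AzIdem
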